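import Cfsg.Agent.H224.Pw.Tab
import Cfsg.Agent.H150.MF.Big
import Cfsg.Agent.H85.Pw.ESix

/-!
# The block `SL_6` : eigenvalues `1, α, α^q, ..., α^(q^4)` (S2465, helper224)

* `range_of_fix`, `descend` : polynomials over `K'` fixed by the Frobenius endomorphism come from `K`;
* `exists_p` : `p.map i = ∏ (X - α ^ q ^ a)`;
* `P6` : every `L * U` in `SL_6(K)`, `|K| ≥ 3`, is a product of two elements with eigenvalues in `E5 l`.
-/

set_option autoImplicit false
set_option linter.unusedSectionVars false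

namespace Cfsg.Agent.H224.Pw

open Polynomial
open Cfsg.Agent.H85.Pw

universe u

section descend

variable {K : Type u} [Field K] [Finite K] {K' : Type} [Field K'] [Finite K'] (i : K →+* K')

theorem fix_range (x : K) : i x ^ Nat.card K = i x := by
  have : Fintype K := Fintype.ofFinite K
  rw [← map_pow, Nat.card_eq_fintype_card, FiniteField.pow_card]

/-- the fixed points of the Frobenius endomorphism -/
theorem range_of_fix {c : K'} (hc : c ^ Nat.card K = c) : ∃ x : K, i x = c := by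
  classical
  have : Fintype K := Fintype.ofFinite K
  have hq : 1 < Nat.card K := Finite.one_lt_card
  let P : K'[X] := X ^ Nat.card K - X
  have hP0 : P ≠ 0 := FiniteField.X_pow_card_sub_X_ne_zero K' hq
  have hdeg : P.natDegree = Nat.card K := FiniteField.X_pow_card_sub_X_natDegree_eq K' hq
  have hmem : ∀ y : K', y ^ Nat.card K = y → y ∈ P.roots.toFinset := by
    intro y hy
    rw [Multiset.mem_toFinset, mem_roots hP0, IsRoot.def, eval_sub, eval_pow, eval_X, hy, sub_self]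
  have h1 : (Finset.univ.image i) ⊆ P.roots.toFinset := by
    intro y hy
    obtain ⟨x, -, rfl⟩ := Finset.mem_image.1 hy
    exact hmem _ (fix_range i x)
  have h2 : P.roots.toFinset.card ≤ (Finset.univ.image i).card := by
    rw [Finset.card_image_of_injective _ i.injective, Finset.card_univ, ← Nat.card_eq_fintype_card, ← hdeg]
    exact (Multiset.toFinset_card_le _).trans (card_roots' P)
  have h3 := Finset.eq_of_subset_of_card_le h1 h2
  have h4 := hmem c hc
  rw [← h3] at h4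
  obtain ⟨x, -, hx⟩ := Finset.mem_image.1 h4
  exact ⟨x, hx⟩

include i in
/-- the Frobenius endomorphism -/
theorem exists_frob : ∃ φ : K' →+* K', ∀ x, φ x = x ^ Nat.card K := by
  obtain ⟨ch, hch⟩ := CharP.exists K
  have hp : Fact ch.Prime := ⟨(CharP.char_is_prime_or_zero K ch).resolve_right (CharP.char_ne_zero_of_finite K ch)⟩
  have : Fintype K := Fintype.ofFinite K
  obtain ⟨n, -, hn⟩ := FiniteField.card K ch
  have hcK' : CharP K' ch := charP_of_injective_ringHom i.injective ch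
  exact ⟨iterateFrobenius K' ch n, fun x => by rw [iterateFrobenius_def, Nat.card_eq_fintype_card, hn]⟩

theorem descend {φ : K' →+* K'} (hφ : ∀ x, φ x = x ^ Nat.card K) {P : K'[X]} (hP : P.map φ = P) :
    ∃ p : K[X], p.map i = P := by
  have h1 : P ∈ Polynomial.lifts i := by
    rw [Polynomial.lifts_iff_coeff_lifts]
    intro n
    obtain ⟨x, hx⟩ := range_of_fix i (c := P.coeff n) (by
      rw [← hφ, ← coeff_map, hP])
    exact ⟨x, hx⟩
  obtain ⟨p, hp⟩ := (Polynomial.mem_lifts P).1 h1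
  exact ⟨p, hp⟩

/-- the polynomial with the roots `α ^ q ^ a`, `a < m` -/
theorem exists_p {m : ℕ} (hm : 0 < m) {α : K'} (hα : α ^ Nat.card K ^ m = α) :
    ∃ p : K[X], p.Monic ∧ p.natDegree = m ∧ p.map i = ∏ a : Fin m, (X - C (α ^ Nat.card K ^ (a : ℕ))) := by
  obtain ⟨φ, hφ⟩ := exists_frob (K' := K') i
  obtain ⟨m, rfl⟩ : ∃ m', m = m' + 1 := ⟨m - 1, by omega⟩
  set q := Nat.card K with hq
  set P : K'[X] := ∏ a : Fin (m + 1), (X - C (α ^ q ^ (a : ℕ))) with hP
  have h1 : P.map φ = P := by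
    rw [hP, Polynomial.map_prod]
    have h2 : ∀ a : Fin (m + 1), (X - C (α ^ q ^ (a : ℕ)) : K'[X]).map φ = X - C (α ^ q ^ ((a : ℕ) + 1)) := by
      intro a
      rw [Polynomial.map_sub, map_X, map_C, hφ, ← pow_mul, ← pow_succ]
    rw [Finset.prod_congr rfl fun a _ => h2 a]
    rw [Fin.prod_univ_castSucc, Fin.prod_univ_succ (n := m) (f := fun a : Fin (m + 1) => (X - C (α ^ q ^ (a : ℕ)) : K'[X]))]
    rw [Fin.val_last, hα, mul_comm]
    simp
  obtain ⟨p, hp⟩ := descend i hφ h1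
  have hPm : P.Monic := monic_prod_of_monic _ _ fun a _ => monic_X_sub_C _
  have hPd : P.natDegree = m + 1 := by
    rw [hP, natDegree_prod_of_monic _ _ fun a _ => monic_X_sub_C _]
    simp only [natDegree_X_sub_C, Finset.sum_const, Finset.card_univ, Fintype.card_fin, smul_eq_mul, mul_one]
  refine ⟨p, ?_, ?_, hp⟩
  · exact monic_of_injective i.injective (by rw [hp]; exact hPm)
  · rw [← natDegree_map_eq_of_injective i.injective p, hp, hPd]

end descend

/-! ### The eigenvalues of the inverse -/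

section inv

variable {K : Type u} [Field K] {K' : Type} [Field K'] (i : K →+* K') {m : ℕ}

theorem ev_conj {E : (Fin m → K') → Prop} {x : Matrix.SpecialLinearGroup (Fin m) K} (h : Ev i E x)
    (g : Matrix.SpecialLinearGroup (Fin m) K) : Ev i E (g * x * g⁻¹) := by
  obtain ⟨lam, h1, h2, h3⟩ := h
  refine ⟨lam, h1, h2, ?_⟩
  rw [← h3]
  congr 1
  have e : ((g * x * g⁻¹ : Matrix.SpecialLinearGroup (Fin m) K) : Matrix (Fin m) (Fin m) K) =
      (g : Matrix (Fin m) (Fin m) K) * x * ((g⁻¹ : Matrix.SpecialLinearGroup (Fin m) K) : Matrix (Fin m) (Fin m) K) := rfl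
  rw [e, Matrix.charpoly_mul_comm, ← mul_assoc]
  have e2 : ((g⁻¹ : Matrix.SpecialLinearGroup (Fin m) K) : Matrix (Fin m) (Fin m) K) * (g : Matrix (Fin m) (Fin m) K) = 1 := by
    rw [← Matrix.SpecialLinearGroup.coe_mul, inv_mul_cancel]; rfl
  rw [e2, one_mul]

theorem ev_inv {E : (Fin m → K') → Prop} (hE : ∀ lam, E lam → E lam⁻¹) (h0 : ∀ lam, E lam → ∀ a, lam a ≠ 0)
    {x : Matrix.SpecialLinearGroup (Fin m) K} (h : Ev i E x) : Ev i E x⁻¹ := by
  obtain ⟨lam, h1, h2, h3⟩ := h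
  refine ⟨lam⁻¹, hE lam h1, fun a b hab => h2 (inv_injective hab), ?_⟩
  obtain ⟨g, hg⟩ := Cfsg.Agent.H934.MF.diag_map i x.1 h2 h3
  have hgg : (g : Matrix (Fin m) (Fin m) K') * ((g⁻¹ : GL (Fin m) K') : Matrix (Fin m) (Fin m) K') = 1 := by
    rw [← Units.val_mul, mul_inv_cancel]; rfl
  have hgg' : ((g⁻¹ : GL (Fin m) K') : Matrix (Fin m) (Fin m) K') * (g : Matrix (Fin m) (Fin m) K') = 1 := by
    rw [← Units.val_mul, inv_mul_cancel]; rfl
  have hd : Matrix.diagonal lam * Matrix.diagonal lam⁻¹ = 1 := by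
    rw [Matrix.diagonal_mul_diagonal, ← Matrix.diagonal_one]
    congr 1
    funext a
    rw [Pi.inv_apply, mul_inv_cancel₀ (h0 lam h1 a)]
  have e1 : x.1.map i * (x⁻¹).1.map i = 1 := by
    have h4 : x.1 * (x⁻¹).1 = 1 := by
      rw [← Matrix.SpecialLinearGroup.coe_mul, mul_inv_cancel]; rfl
    have h5 := congrArg (fun M : Matrix (Fin m) (Fin m) K => i.mapMatrix M) h4
    simpa [RingHom.mapMatrix_apply, Matrix.map_mul] using h5
  have e2 : (x⁻¹).1.map i = (g : Matrix (Fin m) (Fin m) K') * Matrix.diagonal lam⁻¹ * ((g⁻¹ : GL (Fin m) K') : Matrix (Fin m) (Fin m) K') := by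
    have e3 : x.1.map i * ((g : Matrix (Fin m) (Fin m) K') * Matrix.diagonal lam⁻¹ * ((g⁻¹ : GL (Fin m) K') : Matrix (Fin m) (Fin m) K')) = 1 := by
      rw [hg]
      calc _ = (g : Matrix (Fin m) (Fin m) K') * Matrix.diagonal lam * (((g⁻¹ : GL (Fin m) K') : Matrix (Fin m) (Fin m) K') *
            (g : Matrix (Fin m) (Fin m) K')) * Matrix.diagonal lam⁻¹ * ((g⁻¹ : GL (Fin m) K') : Matrix (Fin m) (Fin m) K') := by
              simp only [mul_assoc]
        _ = (g : Matrix (Fin m) (Fin m) K') * (Matrix.diagonal lam * Matrix.diagonal lam⁻¹) *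
            ((g⁻¹ : GL (Fin m) K') : Matrix (Fin m) (Fin m) K') := by rw [hgg', mul_one]; simp only [mul_assoc]
        _ = 1 := by rw [hd, mul_one, hgg]
    exact left_inv_eq_right_inv (mul_eq_one_comm.1 e1) e3
  rw [← Matrix.charpoly_map, e2, Matrix.charpoly_mul_comm, ← mul_assoc, hgg', one_mul, Matrix.charpoly_diagonal]

end inv

/-! ### The product lemma -/

section six

variable {K : Type u} [Field K] [Finite K] {K' : Type} [Field K'] [Finite K'] (i : K →+* K')

theorem E5.inv {l : ℕ} {lam : Fin 6 → K'} (h : E5 l lam) : E5 l lam⁻¹ where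
  pow a := by rw [Pi.inv_apply, inv_pow, h.pow, inv_one]
  prod := by
    have := h.prod
    simp only [Pi.inv_apply]
    rw [Finset.prod_inv_distrib, this, inv_one]
  two a b hab := by
    rw [Pi.inv_apply, Pi.inv_apply, ← mul_inv]
    intro h1
    exact h.two a b hab (inv_eq_one.1 h1)

/-- the element `c₀` -/
theorem exists_six {l : ℕ} (hl : l.Prime) (h5 : l ∣ Nat.card K ^ 5 - 1) (h1 : ¬ l ∣ Nat.card K - 1)
    {α : K'} (hα : orderOf α = l) :
    ∃ c₀ : Matrix.SpecialLinearGroup (Fin 6) K, Cfsg.Agent.H150.MF.NiceM (c₀ : Matrix (Fin 6) (Fin 6) K) ∧ Ev i (E5 l) c₀ := by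
  have hq : 1 < Nat.card K := Finite.one_lt_card
  obtain ⟨q, hqe⟩ : ∃ q, q = Nat.card K := ⟨_, rfl⟩
  rw [← hqe] at hq h5 h1
  have hα1 : α ^ l = 1 := by rw [← hα]; exact pow_orderOf_eq_one α
  have hα0 : α ≠ 0 := ne_zero_of_pow hl.ne_zero hα1
  have hdvd : ∀ e : ℕ, α ^ e = 1 ↔ l ∣ e := fun e => by rw [← hα, orderOf_dvd_iff_pow_eq_one]
  have hlq : ¬ l ∣ q := by
    intro h
    have h3 : l ∣ q ^ 5 := dvd_pow h (by norm_num)
    have h4 : l ∣ q ^ 5 - (q ^ 5 - 1) := Nat.dvd_sub h3 h5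
    have h6 : 1 ≤ q ^ 5 := Nat.one_le_pow _ _ (by omega)
    rw [Nat.sub_sub_self h6] at h4
    exact hl.one_lt.ne' (Nat.dvd_one.1 h4)
  -- the order of `q` modulo `l`
  have hz5 : (q : ZMod l) ^ 5 = 1 := by
    have h6 : 1 ≤ q ^ 5 := Nat.one_le_pow _ _ (by omega)
    have h7 : ((q ^ 5 - 1 : ℕ) : ZMod l) = 0 := (ZMod.natCast_eq_zero_iff _ _).2 h5
    rw [Nat.cast_sub h6, Nat.cast_pow, Nat.cast_one, sub_eq_zero] at h7
    exact h7
  have hz1 : (q : ZMod l) ≠ 1 := by
    intro h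
    apply h1
    rw [← ZMod.natCast_eq_zero_iff, Nat.cast_sub hq.le, h, Nat.cast_one, sub_self]
  have hord : orderOf (q : ZMod l) = 5 := by
    have : Fact (Nat.Prime 5) := ⟨by norm_num⟩
    exact orderOf_eq_prime hz5 hz1
  have hinjz : ∀ a b : ℕ, (q : ZMod l) ^ a = (q : ZMod l) ^ b → a % 5 = b % 5 := by
    intro a b hab
    have hF : Fact l.Prime := ⟨hl⟩
    have hq0 : (q : ZMod l) ≠ 0 := fun h => hlq ((ZMod.natCast_eq_zero_iff _ _).1 h)
    have h3 : Units.mk0 (q : ZMod l) hq0 ^ a = Units.mk0 (q : ZMod l) hq0 ^ b := Units.ext (by simpa using hab)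
    rw [pow_eq_pow_iff_modEq] at h3
    have h4 : orderOf (Units.mk0 (q : ZMod l) hq0) = 5 := by rw [← orderOf_units, Units.val_mk0, hord]
    rw [h4] at h3
    exact h3
  have hnd : ∀ a : ℕ, ¬ l ∣ q ^ a := fun a h => hlq (hl.dvd_of_dvd_pow h)
  have hsum2 : ∀ a b : Fin 5, a ≠ b → ¬ l ∣ q ^ (a : ℕ) + q ^ (b : ℕ) := by
    intro a b hab h
    have h3 : ((q ^ (a : ℕ) + q ^ (b : ℕ) : ℕ) : ZMod l) = 0 := (ZMod.natCast_eq_zero_iff _ _).2 h
    push_cast at h3
    have h4 : (q : ZMod l) ^ (a : ℕ) = - (q : ZMod l) ^ (b : ℕ) := eq_neg_of_add_eq_zero_left h3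
    have h6 : (q : ZMod l) ^ (2 * (a : ℕ)) = (q : ZMod l) ^ (2 * (b : ℕ)) := by
      rw [mul_comm 2, mul_comm 2, pow_mul, pow_mul, h4, neg_sq]
    have h7 := hinjz _ _ h6
    apply hab
    apply Fin.ext
    have := a.2
    have := b.2
    omega
  let μ : Fin 5 → K' := fun a => α ^ q ^ (a : ℕ)
  have hμinj : Function.Injective μ := by
    intro a b hab
    have h3 : q ^ (a : ℕ) ≡ q ^ (b : ℕ) [MOD l] := by
      have h4 : Units.mk0 α hα0 ^ q ^ (a : ℕ) = Units.mk0 α hα0 ^ q ^ (b : ℕ) := Units.ext (by simpa using hab)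
      rw [pow_eq_pow_iff_modEq, ← orderOf_units, Units.val_mk0, hα] at h4
      exact h4
    have h4 := (ZMod.natCast_eq_natCast_iff _ _ l).2 h3
    push_cast at h4
    have h5 := hinjz _ _ h4
    apply Fin.ext
    have := a.2
    have := b.2
    omega
  have hμ1 : ∀ a, μ a ≠ 1 := fun a h => hnd _ ((hdvd _).1 h)
  have hμp : ∏ a, μ a = 1 := by
    have h3 : ∏ a, μ a = α ^ ∑ a : Fin 5, q ^ (a : ℕ) := Finset.prod_pow_eq_pow_sum _ _ _
    rw [h3, hdvd]
    have h4 : (q - 1) * ∑ a : Fin 5, q ^ (a : ℕ) = q ^ 5 - 1 := by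
      rw [Fin.sum_univ_eq_sum_range (fun a => q ^ a) 5]
      exact geom_mul q 5 hq.le
    rw [← h4] at h5
    exact (hl.dvd_mul.1 h5).resolve_left h1
  obtain ⟨p, hpm, hpd, hpi⟩ := exists_p i (m := 5) (by norm_num) (α := α) (by
    rw [← hqe]
    have h3 : q ^ 5 ≡ 1 [MOD l] := by
      rw [Nat.ModEq.comm]
      exact (Nat.modEq_iff_dvd' (Nat.one_le_pow _ _ (by omega))).2 h5
    have h4 := (pow_eq_pow_iff_modEq (x := Units.mk0 α hα0) (n := q ^ 5) (m := 1)).2 (by
      rw [← orderOf_units, Units.val_mk0, hα]; exact h3)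
    have h6 := congrArg Units.val h4
    simpa using h6)
  rw [← hqe] at hpi
  have hpi' : p.map i = ∏ a : Fin 5, (X - C (μ a)) := hpi
  have hp0 : p.coeff 0 = -1 := by
    apply i.injective
    rw [← coeff_map, hpi', coeff_zero_eq_eval_zero, eval_prod]
    simp only [eval_sub, eval_X, eval_C, zero_sub]
    rw [Finset.prod_neg, hμp, Finset.card_univ, Fintype.card_fin, map_neg, map_one]
    norm_num
  have hpν : p.eval 1 ≠ 0 := by
    intro h
    have h3 : (p.map i).eval (i 1) = 0 := by rw [eval_map_apply, h, map_zero]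
    rw [hpi', eval_prod, Finset.prod_eq_zero_iff] at h3
    obtain ⟨a, -, ha⟩ := h3
    rw [eval_sub, eval_X, eval_C, map_one, sub_eq_zero] at ha
    exact hμ1 a ha.symm
  obtain ⟨c₀, hc1, hc2⟩ := Cfsg.Agent.H150.MF.exists_niceM (n := 6) (ν := 1) hpm (by rw [hpd]) (by
    rw [mul_coeff_zero, coeff_sub, coeff_X_zero, coeff_C_zero, hp0]
    norm_num) hpν
  refine ⟨c₀, hc2, Fin.cons 1 μ, ⟨?_, ?_, ?_⟩, ?_, ?_⟩
  · intro a
    refine Fin.cases ?_ (fun a => ?_) a
    · rw [Fin.cons_zero, one_pow]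
    · rw [Fin.cons_succ]
      show (α ^ q ^ (a : ℕ)) ^ l = 1
      rw [← pow_mul, mul_comm, pow_mul, hα1, one_pow]
  · rw [Fin.prod_univ_succ, Fin.cons_zero, one_mul]
    simp only [Fin.cons_succ]
    exact hμp
  · intro a b
    refine Fin.cases ?_ (fun a => ?_) a <;> refine Fin.cases ?_ (fun b => ?_) b
    · intro h; exact absurd rfl h
    · intro _
      rw [Fin.cons_zero, Fin.cons_succ, one_mul]
      exact hμ1 b
    · intro _
      rw [Fin.cons_zero, Fin.cons_succ, mul_one]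
      exact hμ1 a
    · intro hab
      rw [Fin.cons_succ, Fin.cons_succ]
      show α ^ q ^ (a : ℕ) * α ^ q ^ (b : ℕ) ≠ 1
      rw [← pow_add, Ne, hdvd]
      exact hsum2 a b fun h => hab (congrArg Fin.succ h)
  · intro a b
    refine Fin.cases ?_ (fun a => ?_) a <;> refine Fin.cases ?_ (fun b => ?_) b
    · intro _; rfl
    · intro h
      rw [Fin.cons_zero, Fin.cons_succ] at h
      exact absurd h.symm (hμ1 b)
    · intro h
      rw [Fin.cons_zero, Fin.cons_succ] at h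
      exact absurd h (hμ1 a)
    · intro h
      rw [Fin.cons_succ, Fin.cons_succ] at h
      exact congrArg Fin.succ (hμinj h)
  · have h := Fin.prod_univ_succ (fun a : Fin 6 => (X - C ((Fin.cons 1 μ : Fin 6 → K') a) : K'[X]))
    simp only [Fin.cons_zero, Fin.cons_succ] at h
    rw [hc1, Polynomial.map_mul, hpi', Polynomial.map_sub, map_X, map_C, map_one]
    exact h.symm

/-- **Every `L * U` in `SL_6(K)`.** -/
theorem P6 (hK : 3 ≤ Nat.card K) {l : ℕ} (hl : l.Prime) (h5 : l ∣ Nat.card K ^ 5 - 1)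
    (h1 : ¬ l ∣ Nat.card K - 1) {α : K'} (hα : orderOf α = l) :
    ∀ L ∈ Cfsg.Agent.H162.GaussSL.LT 6 K, ∀ U ∈ Cfsg.Agent.H162.GaussSL.UT 6 K,
      ∃ x y : Matrix.SpecialLinearGroup (Fin 6) K, L * U = x * y ∧ Ev i (E5 l) x ∧ Ev i (E5 l) y := by
  intro L hL U hU
  obtain ⟨c₀, hc, he⟩ := exists_six i hl h5 h1 hα
  obtain ⟨g, h, hgh⟩ := Cfsg.Agent.H150.MF.mf_lu hK (by norm_num) hc hL hU
  exact ⟨_, _, hgh, ev_conj i he g, ev_conj i (ev_inv i (fun lam h => h.inv)
    (fun lam h a => ne_zero_of_pow hl.ne_zero (h.pow a)) he) h⟩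

end six

end Cfsg.Agent.H224.Pw
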