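import Cfsg.Agent.H85.Pw.Two
import Cfsg.Agent.H85.Ore.Phi
import Cfsg.Agent.H155.TG.Exc

/-!
# The blocks of type `A_5` and `A_1` of `E_7` (S2465, helper224)

`J51` : all nodes but `2` (Bourbaki `3`); `T5`, `T1` : the tables; `hsub`, `hcom`; `hout` : the values of the roots outside `J51` on
`(lam, mu)`, `lam ^ l = 1`, `mu ^ r = 1`, `l`, `r` coprime, `lam a * lam b ≠ 1`, `mu a ≠ 1`.
-/

set_option autoImplicit false
set_option linter.unusedSectionVars false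

namespace Cfsg.Agent.H224.Pw

open Cfsg.Agent.Nodes.RGDChev Cfsg.Agent.Nodes.KindChev Cfsg.Agent.OddHalf.NI.ModelChev Cfsg.Agent.KFacts.RgdChevCoord
open Cfsg.Lie Cfsg.Agent.ChevalleyStructure Cfsg.Agent.ChevalleyStructure.RootVec
  Cfsg.Agent.ChevalleyStructure.CoxeterGeomTypes
open Cfsg.Agent.TitsThree.KExcRT Cfsg.Agent.AGraded
open Cfsg.Agent.H162.GaussExcMain (exists_hom_D)
open Cfsg.Agent.H482.Ore.Fix (wt)
open Cfsg.Agent.H85.Pw

universe u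

/-- the roots of the block of type `A_5` of `E_7` (nodes `1, 3, 4, 5, 6`) -/
def r5 : Fin 6 → Fin 6 → ℕ := ![![0, 78, 79, 80, 81, 82], ![47, 0, 69, 70, 71, 72], ![46, 56, 0, 66, 67, 68],
  ![45, 55, 59, 0, 64, 65], ![44, 54, 58, 61, 0, 63], ![43, 53, 57, 60, 62, 0]]

/-- the roots of the block of type `A_1` of `E_7` (node `0`) -/
def r1 : Fin 2 → Fin 2 → ℕ := ![![0, 93], ![32, 0]]

/-- the nodes of the blocks -/
abbrev J51 : List (Fin 7) := [0, 1, 3, 4, 5, 6]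

def j5 : Fin 5 → Fin 7 := ![1, 3, 4, 5, 6]

def j1 : Fin 1 → Fin 7 := ![0]

theorem rt5 : RTa chevE7 r5 ∧ (RTb chevE7 r5 fun _ _ => -1) ∧ RTc chevE7 r5 ∧
    ∀ i j, i ≠ j → r5 j i = chevE7.neg (r5 i j) := by decide +kernel

theorem ch5 : (∀ a b, a ≠ b → ∀ k, k ∉ J51 → vec chevE7 7 (r5 a b) k = 0) ∧
    ∀ a : Fin 5, r5 a.castSucc a.succ = chevE7.simple (j5 a) := by decide +kernel

theorem ch1 : (∀ a b, a ≠ b → r1 a b < chevE7.nroots) ∧ (∀ a b, a ≠ b → ∀ k, k ∉ J51 → vec chevE7 7 (r1 a b) k = 0) ∧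
    (∀ i j, i ≠ j → r1 j i = chevE7.neg (r1 i j)) ∧ ∀ a : Fin 1, r1 a.castSucc a.succ = chevE7.simple (j1 a) := by
  decide +kernel

theorem hsub : Sub2 chevE7 7 J51 4 0 r5 r1 := by decide +kernel

theorem hcom : Com2 chevE7 4 0 r5 r1 := by decide +kernel

theorem T5 : Tb Cfsg.Agent.Nodes.KindE.isType7 J51 4 r5 j5 (-1) where
  eps := by norm_num
  up := ch5.2
  neg := rt5.2.2.2
  rlt := rt5.1
  rJ := ch5.1
  hom F _ := exists_hom_D Cfsg.Agent.Nodes.KindE.isType7 (K := F) (n := 3) (ε := -1) (by norm_num) rt5.1 rt5.2.1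
    rt5.2.2.1 rt5.2.2.2

theorem T1 : Tb Cfsg.Agent.Nodes.KindE.isType7 J51 0 r1 j1 1 where
  eps := by norm_num
  up := ch1.2.2.2
  neg := ch1.2.2.1
  rlt := ch1.1
  rJ := ch1.2.1
  hom F _ := Cfsg.Agent.H155.TG.exists_phi2 (K := F) Cfsg.Agent.Nodes.KindE.isType7 0 (r := r1) (s := fun _ _ => 1)
    (ch1.2.2.2 0) ((ch1.2.2.1 0 1 (by decide)).trans (congrArg _ (ch1.2.2.2 0))) rfl rfl

/-! ### The weights -/

/-- the exponents on the block `A_5` : constant, plus `s` at two places -/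
def Pair (e : Fin 6 → ℤ) : Prop :=
  ∃ a b : Fin 6, a ≠ b ∧ ∃ c ∈ [(-1 : ℤ), 0, 1], ∃ s ∈ [(-1 : ℤ), 1], ∀ x, e x = c + if x = a ∨ x = b then s else 0

instance (e : Fin 6 → ℤ) : Decidable (Pair e) := by
  unfold Pair
  infer_instance

theorem wts : ∀ q < chevE7.nroots, (∃ k, k ∉ J51 ∧ vec chevE7 7 q k ≠ 0) →
    (wt chevE7 j1 q 0 - wt chevE7 j1 q 1 = 1 ∨ wt chevE7 j1 q 0 - wt chevE7 j1 q 1 = -1) ∨ Pair (wt chevE7 j5 q) := by
  decide +kernel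

section val

variable {K' : Type} [Field K']

/-- the eigenvalues on the block `A_5` -/
structure E5 (l : ℕ) (lam : Fin 6 → K') : Prop where
  pow : ∀ a, lam a ^ l = 1
  prod : ∏ a, lam a = 1
  two : ∀ a b, a ≠ b → lam a * lam b ≠ 1

/-- the eigenvalues on the block `A_1` -/
structure E1 (r : ℕ) (mu : Fin 2 → K') : Prop where
  pow : ∀ a, mu a ^ r = 1
  prod : mu 0 * mu 1 = 1
  one : mu 0 ≠ 1

theorem zpow_pow_one {x : K'} {l : ℕ} (h : x ^ l = 1) (e : ℤ) : (x ^ e) ^ l = 1 := by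
  rw [← zpow_natCast, ← zpow_mul, mul_comm, zpow_mul, zpow_natCast, h, one_zpow]

theorem ne_zero_of_pow {x : K'} {l : ℕ} (hl : l ≠ 0) (h : x ^ l = 1) : x ≠ 0 := by
  rintro rfl
  rw [zero_pow hl] at h
  exact zero_ne_one h

theorem E5.ne {l : ℕ} (hl : l ≠ 0) {lam : Fin 6 → K'} (H : E5 l lam) {e : Fin 6 → ℤ} (h : Pair e) :
    ∏ b, lam b ^ e b ≠ 1 := by
  classical
  obtain ⟨a, b, hab, c, -, s, hs, he⟩ := h
  have h0 : ∀ x, lam x ≠ 0 := fun x => ne_zero_of_pow hl (H.pow x)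
  have h1 : ∏ x, lam x ^ e x = (∏ x, lam x) ^ c * (lam a * lam b) ^ s := by
    have h2 : ∀ x, lam x ^ e x = lam x ^ c * if x = a ∨ x = b then lam x ^ s else 1 := by
      intro x
      rw [he x, zpow_add₀ (h0 x)]
      congr 1
      split_ifs
      · rfl
      · rw [zpow_zero]
    rw [Finset.prod_congr rfl fun x _ => h2 x, Finset.prod_mul_distrib, Finset.prod_zpow, ← Finset.prod_filter]
    congr 1
    have h3 : Finset.univ.filter (fun x : Fin 6 => x = a ∨ x = b) = {a, b} := by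
      ext x; simp
    rw [h3, Finset.prod_pair hab, mul_zpow]
  rw [h1, H.prod, one_zpow, one_mul]
  intro h2
  have h3 : lam a * lam b = 1 := by
    simp only [List.mem_cons, List.not_mem_nil, or_false] at hs
    rcases hs with rfl | rfl
    · rwa [zpow_neg, zpow_one, inv_eq_one] at h2
    · rwa [zpow_one] at h2
  exact H.two a b hab h3

theorem E1.ne {r : ℕ} (hr : r ≠ 0) {mu : Fin 2 → K'} (H : E1 r mu) {e : Fin 2 → ℤ} (h : e 0 - e 1 = 1 ∨ e 0 - e 1 = -1) :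
    ∏ b, mu b ^ e b ≠ 1 := by
  have h0 : mu 0 ≠ 0 := ne_zero_of_pow hr (H.pow 0)
  have h1 : mu 1 = (mu 0)⁻¹ := eq_inv_of_mul_eq_one_right H.prod
  rw [Fin.prod_univ_two, h1, inv_zpow', ← zpow_add₀ h0, ← sub_eq_add_neg]
  intro h2
  apply H.one
  rcases h with h | h
  · rwa [h, zpow_one] at h2
  · rwa [h, zpow_neg, zpow_one, inv_eq_one] at h2

/-- **the values of the roots outside `J51`** -/
theorem hout {l r : ℕ} (hl : l ≠ 0) (hr : r ≠ 0) (hlr : Nat.Coprime l r) (lam : Fin 6 → K') (H : E5 l lam)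
    (mu : Fin 2 → K') (H' : E1 r mu) : ∀ q < chevE7.nroots, (∃ k, k ∉ J51 ∧ vec chevE7 7 q k ≠ 0) →
      (∏ b, lam b ^ wt chevE7 j5 q b) * ∏ b, mu b ^ wt chevE7 j1 q b ≠ 1 := by
  intro q hq hk h
  obtain ⟨P, hP⟩ : ∃ P, P = ∏ b, lam b ^ wt chevE7 j5 q b := ⟨_, rfl⟩
  obtain ⟨Q, hQ⟩ : ∃ Q, Q = ∏ b, mu b ^ wt chevE7 j1 q b := ⟨_, rfl⟩
  rw [← hP, ← hQ] at h
  have h1 : P ^ l = 1 := by
    rw [hP, ← Finset.prod_pow]
    exact Finset.prod_eq_one fun b _ => zpow_pow_one (H.pow b) _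
  have h2 : Q ^ r = 1 := by
    rw [hQ, ← Finset.prod_pow]
    exact Finset.prod_eq_one fun b _ => zpow_pow_one (H'.pow b) _
  have hQP : Q = P⁻¹ := eq_inv_of_mul_eq_one_right h
  have h3 : P ^ r = 1 := by rwa [hQP, inv_pow, inv_eq_one] at h2
  have h4 : P = 1 := by
    have h5 : orderOf P ∣ Nat.gcd l r := Nat.dvd_gcd (orderOf_dvd_of_pow_eq_one h1) (orderOf_dvd_of_pow_eq_one h3)
    rw [hlr] at h5
    exact orderOf_eq_one_iff.1 (Nat.dvd_one.1 h5)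
  rcases wts q hq hk with h5 | h5
  · apply E1.ne hr H' h5
    rw [← hQ, hQP, h4, inv_one]
  · apply E5.ne hl H h5
    rw [← hP, h4]

end val

end Cfsg.Agent.H224.Pw
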